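import Mathlib.Algebra.Category.ModuleCat.Ext.DimensionShifting
import Mathlib.Algebra.Category.ModuleCat.Ext.HasExt
import Mathlib.Algebra.Category.ModuleCat.Projective
import Mathlib.Algebra.Homology.DerivedCategory.Ext.Linear
import Mathlib.Algebra.Homology.ShortComplex.ModuleCat
import Mathlib.RingTheory.Length
import Mathlib.LinearAlgebra.Pi

/-!
`Ext¹` between lattices: for `M = A + Σ A u_j ⊆ S` and `N ⊆ S`, the length of `Ext¹_A(M,N)` plus the
length of `N / (N : M)` is the length of `P / eN^r`.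
-/

set_option autoImplicit false
universe u

open CategoryTheory

namespace Groth.L21.ExtLattice

variable {A S : Type u} [CommRing A] [CommRing S] [Algebra A S] {r : ℕ}

/-- The map `A × A^r → S` with image `A + Σ A u_j`. -/
noncomputable def comb (u : Fin r → S) : (A × (Fin r → A)) →ₗ[A] S :=
  (Algebra.linearMap A S).coprod (Fintype.linearCombination A u)

theorem comb_apply (u : Fin r → S) (a : A × (Fin r → A)) :
    comb u a = algebraMap A S a.1 + ∑ j, a.2 j • u j := by
  simp [comb, Fintype.linearCombination_apply]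

theorem range_comb (u : Fin r → S) :
    LinearMap.range (comb (A := A) u) = Submodule.span A (insert 1 (Set.range u)) := by
  rw [comb, LinearMap.range_coprod, Fintype.range_linearCombination, Submodule.span_insert]
  congr 1
  rw [← Submodule.one_eq_span, Submodule.one_eq_range]

theorem exists_ext_one_of_presentation {F M : Type u} [AddCommGroup F] [Module A F]
    [AddCommGroup M] [Module A M] (f : F →ₗ[A] M) (hf : Function.Surjective f) {ι : Type u}
    (b : Module.Basis ι A F) (N : Type u) [AddCommGroup N] [Module A N] :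
    ∃ δ : (↥(LinearMap.ker f) →ₗ[A] N) →ₗ[A]
        Abelian.Ext (ModuleCat.of A M) (ModuleCat.of A N) 1,
      Function.Surjective δ ∧ ∀ φ : ↥(LinearMap.ker f) →ₗ[A] N, δ φ = 0 ↔
        ∃ g : F →ₗ[A] N, g.comp (LinearMap.ker f).subtype = φ := by
  have hS := LinearMap.shortExact_shortComplexKer hf
  haveI : Projective f.shortComplexKer.X₂ := ModuleCat.projective_of_free b
  let e : Abelian.Ext f.shortComplexKer.X₁ (ModuleCat.of A N) 0 ≃ₗ[A]
      (↥(LinearMap.ker f) →ₗ[A] N) := Abelian.Ext.linearEquiv₀.trans ModuleCat.homLinearEquiv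
  let p : Abelian.Ext f.shortComplexKer.X₁ (ModuleCat.of A N) 0 →ₗ[A]
      Abelian.Ext (ModuleCat.of A M) (ModuleCat.of A N) 1 :=
    hS.extClass.precompOfLinear A (ModuleCat.of A N) (add_zero 1)
  refine ⟨p ∘ₗ e.symm.toLinearMap, ?_, fun φ => ⟨fun h => ?_, ?_⟩⟩
  · intro x
    obtain ⟨y, hy⟩ := precomp_extClass_surjective_of_projective_X₂ _ hS 0 x
    exact ⟨e y, (congrArg p (e.symm_apply_apply y)).trans hy⟩
  · obtain ⟨x, hx⟩ := Abelian.Ext.contravariant_sequence_exact₁ hS _
      (Abelian.Ext.mk₀ (ModuleCat.ofHom φ)) (add_zero 1) h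
    obtain ⟨g, rfl⟩ := Abelian.Ext.addEquiv₀.symm.surjective x
    rw [Abelian.Ext.addEquiv₀_symm_apply, Abelian.Ext.mk₀_comp_mk₀] at hx
    exact ⟨g.hom, congrArg ModuleCat.Hom.hom ((Abelian.Ext.mk₀_bijective _ _).1 hx)⟩
  · rintro ⟨g, rfl⟩
    change hS.extClass.comp (Abelian.Ext.mk₀ (f.shortComplexKer.f ≫ ModuleCat.ofHom g)) (add_zero 1) = 0
    rw [← Abelian.Ext.mk₀_comp_mk₀, hS.extClass_comp_assoc]

theorem length_ext_one_add {M N : Submodule A S} {T : Set S} (hT : Submodule.span A T = M)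
    (u : Fin r → S) (hTu : T = insert 1 (Set.range u)) (e : A)
    (he : ∀ x : S, e • x = 0 → x = 0) (hA : Function.Injective (algebraMap A S))
    (c : Fin r → A) (hc : ∀ j, algebraMap A S (c j) = e • u j)
    (P E : Submodule A (Fin r → S)) (C : Submodule A S)
    (hP : ∀ y, y ∈ P ↔ (∀ j, y j ∈ N) ∧ ∀ a : Fin r → A,
      (∑ j, a j • u j) ∈ (1 : Submodule A S) → ∃ n ∈ N, ∑ j, a j • y j = e • n)
    (hE : ∀ y, y ∈ E ↔ ∀ j, ∃ n ∈ N, y j = e • n)
    (hC : ∀ x, x ∈ C ↔ x ∈ N ∧ ∀ j, u j * x ∈ N) :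
    Module.length A (Abelian.Ext (ModuleCat.of A M) (ModuleCat.of A N) 1) +
      Module.length A (↥N ⧸ C.comap N.subtype) = Module.length A (↥P ⧸ E.comap P.subtype) := by
  classical
  have hM : LinearMap.range (comb (A := A) u) = M := by rw [range_comb, ← hTu, hT]
  subst hM
  let f : (A × (Fin r → A)) →ₗ[A] LinearMap.range (comb (A := A) u) := (comb u).rangeRestrict
  have hf : Function.Surjective f := LinearMap.surjective_rangeRestrict _
  obtain ⟨δ, hδ, hδker⟩ := exists_ext_one_of_presentation f hf (Module.Free.chooseBasis A _) ↥N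
  -- elements of the kernel
  have hker : ∀ a : A × (Fin r → A), a ∈ LinearMap.ker f ↔ algebraMap A S a.1 + ∑ j, a.2 j • u j = 0 := by
    intro a
    rw [LinearMap.mem_ker, Subtype.ext_iff, ← comb_apply]
    rfl
  have hv : ∀ j, (-c j, Pi.single j e) ∈ LinearMap.ker f := fun j => by
    rw [hker, map_neg, hc, Finset.sum_eq_single j]
    · simp
    · intro i _ hij; simp [Pi.single_eq_of_ne hij]
    · simp
  let v : Fin r → ↥(LinearMap.ker f) := fun j => ⟨_, hv j⟩
  have hdecomp : ∀ a : ↥(LinearMap.ker f), e • a = ∑ j, (a : A × (Fin r → A)).2 j • v j := by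
    intro a
    apply Subtype.ext
    simp only [Submodule.coe_smul, Submodule.coe_sum, v]
    apply Prod.ext
    · rw [Prod.smul_fst, Prod.fst_sum]
      apply hA
      have h0 := (hker _).1 a.2
      rw [smul_eq_mul, map_mul, map_sum, eq_neg_of_add_eq_zero_left h0, mul_neg, Finset.mul_sum,
        ← Finset.sum_neg_distrib]
      refine Finset.sum_congr rfl fun j _ => ?_
      rw [Prod.smul_fst, smul_eq_mul, map_mul, map_neg, hc, Algebra.smul_def, Algebra.smul_def]
      ring
    · rw [Prod.smul_snd, Prod.snd_sum]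
      funext i
      rw [Finset.sum_apply, Finset.sum_eq_single i]
      · simp [mul_comm]
      · intro j _ hji; simp [Pi.single_eq_of_ne' hji]
      · simp
  have hex : ∀ y : ↥P, ∀ a : ↥(LinearMap.ker f), ∃ n : ↥N,
      ∑ j, (a : A × (Fin r → A)).2 j • (y : Fin r → S) j = e • (n : S) := by
    intro y a
    obtain ⟨n, hn, h⟩ := ((hP y).1 y.2).2 (a : A × (Fin r → A)).2 (Submodule.mem_one.2
      ⟨-(a : A × (Fin r → A)).1, by rw [map_neg, neg_eq_iff_add_eq_zero]; exact (hker _).1 a.2⟩)
    exact ⟨⟨n, hn⟩, h⟩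
  choose φ₀ hφ₀ using hex
  have hcancel : ∀ n n' : ↥N, e • (n : S) = e • (n' : S) → n = n' := fun n n' h =>
    Subtype.ext (sub_eq_zero.1 (he _ (by rw [smul_sub, h, sub_self])))
  let toHom : ↥P →ₗ[A] (↥(LinearMap.ker f) →ₗ[A] ↥N) :=
    { toFun := fun y =>
        { toFun := φ₀ y
          map_add' := fun a b => hcancel _ _ (by
            rw [Submodule.coe_add, smul_add, ← hφ₀, ← hφ₀, ← hφ₀, ← Finset.sum_add_distrib]
            simp [add_smul])
          map_smul' := fun t a => hcancel _ _ (by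
            rw [RingHom.id_apply, Submodule.coe_smul, smul_comm, ← hφ₀, ← hφ₀, Finset.smul_sum]
            simp [mul_smul]) }
      map_add' := fun y z => LinearMap.ext fun a => hcancel _ _ (by
        simp only [LinearMap.coe_mk, AddHom.coe_mk, LinearMap.add_apply, Submodule.coe_add, smul_add]
        rw [← hφ₀, ← hφ₀, ← hφ₀, ← Finset.sum_add_distrib]
        simp [smul_add])
      map_smul' := fun t y => LinearMap.ext fun a => hcancel _ _ (by
        simp only [LinearMap.coe_mk, AddHom.coe_mk, RingHom.id_apply, LinearMap.smul_apply,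
          Submodule.coe_smul]
        rw [smul_comm e, ← hφ₀, ← hφ₀, Finset.smul_sum]
        simp only [Submodule.coe_smul, Pi.smul_apply]
        exact Finset.sum_congr rfl fun j _ => smul_comm _ _ _) }
  have htoHom : ∀ (y : ↥P) j, (toHom y (v j) : S) = (y : Fin r → S) j := by
    intro y j
    refine sub_eq_zero.1 (he _ ?_)
    rw [smul_sub, sub_eq_zero]
    change e • (φ₀ y (v j) : S) = _
    rw [← hφ₀, Finset.sum_eq_single j]
    · simp [v]
    · intro i _ hij; simp [v, Pi.single_eq_of_ne hij]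
    · simp
  have hsurj : Function.Surjective toHom := by
    intro φ
    have hy : (fun j => (φ (v j) : S)) ∈ P := by
      rw [hP]
      refine ⟨fun j => (φ (v j)).2, fun a ha => ?_⟩
      obtain ⟨a0, ha0⟩ := Submodule.mem_one.1 ha
      have hk : (-a0, a) ∈ LinearMap.ker f := by rw [hker, map_neg, ha0, neg_add_cancel]
      refine ⟨φ ⟨_, hk⟩, (φ _).2, ?_⟩
      have h2 := congrArg (fun z => ((φ z : ↥N) : S)) (hdecomp ⟨_, hk⟩)
      simp only [map_smul, map_sum, Submodule.coe_smul, Submodule.coe_sum] at h2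
      exact h2.symm
    refine ⟨⟨_, hy⟩, LinearMap.ext fun a => hcancel _ _ ?_⟩
    change e • (φ₀ _ a : S) = _
    rw [← hφ₀, ← Submodule.coe_smul, ← map_smul, hdecomp, map_sum, Submodule.coe_sum]
    simp
  let g : ↥P →ₗ[A] Abelian.Ext (ModuleCat.of A _) (ModuleCat.of A N) 1 := δ ∘ₗ toHom
  have hg0 : ∀ y : ↥P, g y = 0 ↔ ∃ n0 ∈ N, ∃ n : Fin r → ↥N, ∀ j,
      (y : Fin r → S) j = e • ((n j : S) - u j * n0) := by
    intro y
    rw [LinearMap.comp_apply, hδker]
    constructor
    · rintro ⟨γ, hγ⟩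
      refine ⟨γ (1, 0), (γ (1, 0)).2, fun j => γ (0, Pi.single j 1), fun j => ?_⟩
      rw [← htoHom y j, ← hγ, LinearMap.comp_apply, Submodule.subtype_apply]
      rw [show ((v j : ↥(LinearMap.ker f)) : A × (Fin r → A)) =
        (-c j) • (1, 0) + e • (0, Pi.single j 1) by
          ext i <;> simp [v, Pi.single_apply]]
      rw [map_add, map_smul, map_smul, Submodule.coe_add, Submodule.coe_smul, Submodule.coe_smul,
        neg_smul, Algebra.smul_def (c j), hc, smul_sub, smul_mul_assoc]
      abel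
    · rintro ⟨n0, hn0, n, hn⟩
      let γ : (A × (Fin r → A)) →ₗ[A] ↥N := (LinearMap.toSpanSingleton A ↥N ⟨n0, hn0⟩).coprod
        (Fintype.linearCombination A n)
      refine ⟨γ, LinearMap.ext fun a => hcancel _ _ ?_⟩
      rw [← Submodule.coe_smul, ← Submodule.coe_smul, ← map_smul, ← map_smul, hdecomp, map_sum,
        map_sum, Submodule.coe_sum, Submodule.coe_sum]
      refine Finset.sum_congr rfl fun j _ => ?_
      rw [map_smul, map_smul, Submodule.coe_smul, Submodule.coe_smul]
      congr 1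
      rw [htoHom, hn]
      simp only [γ, LinearMap.comp_apply, Submodule.subtype_apply, v, LinearMap.coprod_apply,
        LinearMap.toSpanSingleton_apply, Fintype.linearCombination_apply, Submodule.coe_add]
      rw [Finset.sum_eq_single j (fun i _ hij => by simp [Pi.single_eq_of_ne hij]) (by simp),
        Pi.single_eq_same, Submodule.coe_smul, Submodule.coe_smul, neg_smul, Algebra.smul_def (c j),
        hc, smul_sub, smul_mul_assoc]
      abel
  have hEP : ∀ n0 ∈ N, (fun j => e • (u j * n0)) ∈ P := by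
    intro n0 hn0
    rw [hP]
    refine ⟨fun j => ?_, fun a ha => ?_⟩
    · rw [← smul_mul_assoc, ← hc, ← Algebra.smul_def]
      exact N.smul_mem _ hn0
    · obtain ⟨a0, ha0⟩ := Submodule.mem_one.1 ha
      refine ⟨a0 • n0, N.smul_mem _ hn0, ?_⟩
      simp_rw [smul_comm _ e, ← Finset.smul_sum, ← smul_mul_assoc, ← Finset.sum_mul]
      rw [Algebra.smul_def a0, ha0]
  -- the left map
  let ι : ↥N →ₗ[A] ↥P := LinearMap.codRestrict P
    (LinearMap.pi fun j => (e • (LinearMap.mulLeft A (u j))).comp N.subtype) (fun n => hEP n.1 n.2)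
  have hι : ∀ (n : ↥N) j, (ι n : Fin r → S) j = e • (u j * n) := fun n j => rfl
  let E' := E.comap P.subtype
  have hEg : E' ≤ LinearMap.ker g := by
    intro y hy
    rw [Submodule.mem_comap, hE] at hy
    choose n hn h using hy
    rw [LinearMap.mem_ker, hg0]
    exact ⟨0, N.zero_mem, fun j => ⟨n j, hn j⟩, fun j => by
      simpa using h j⟩
  have hι_mem : ∀ n : ↥N, ι n ∈ E' ↔ n ∈ C.comap N.subtype := by
    intro n
    rw [Submodule.mem_comap, hE, Submodule.mem_comap, hC]
    constructor
    · intro h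
      refine ⟨n.2, fun j => ?_⟩
      obtain ⟨m, hm, h'⟩ := h j
      rw [show u j * (N.subtype n) = m from sub_eq_zero.1 (he _ (by
        rw [smul_sub, sub_eq_zero]; exact h'))]
      exact hm
    · intro h j
      exact ⟨_, h.2 j, rfl⟩
  let F : (↥N ⧸ C.comap N.subtype) →ₗ[A] (↥P ⧸ E') :=
    Submodule.mapQ _ _ ι (fun n hn => (hι_mem n).2 hn)
  let G : (↥P ⧸ E') →ₗ[A] Abelian.Ext (ModuleCat.of A _) (ModuleCat.of A N) 1 := E'.liftQ g hEg
  have hF : Function.Injective F := by
    rw [← LinearMap.ker_eq_bot, eq_bot_iff]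
    intro x hx
    obtain ⟨n, rfl⟩ := Submodule.Quotient.mk_surjective _ x
    rw [LinearMap.mem_ker, Submodule.mapQ_apply, Submodule.Quotient.mk_eq_zero, hι_mem] at hx
    rw [Submodule.mem_bot, Submodule.Quotient.mk_eq_zero]
    exact hx
  have hG : Function.Surjective G := by
    intro x
    obtain ⟨φ, rfl⟩ := hδ x
    obtain ⟨y, rfl⟩ := hsurj φ
    exact ⟨Submodule.Quotient.mk y, rfl⟩
  have hFG : Function.Exact F G := by
    intro x
    obtain ⟨y, rfl⟩ := Submodule.Quotient.mk_surjective _ x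
    rw [Submodule.liftQ_apply, hg0]
    constructor
    · rintro ⟨n0, hn0, n, hn⟩
      refine ⟨Submodule.Quotient.mk (-⟨n0, hn0⟩), ?_⟩
      rw [Submodule.mapQ_apply, Submodule.Quotient.eq, Submodule.mem_comap, hE]
      intro j
      refine ⟨-(n j : S), N.neg_mem (n j).2, ?_⟩
      rw [map_sub, Pi.sub_apply, Submodule.subtype_apply, Submodule.subtype_apply, hι, hn,
        Submodule.coe_neg, mul_neg, smul_neg, smul_neg, smul_sub]
      abel
    · rintro ⟨z, hz⟩
      obtain ⟨n, rfl⟩ := Submodule.Quotient.mk_surjective _ z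
      rw [Submodule.mapQ_apply, Submodule.Quotient.eq, Submodule.mem_comap, hE] at hz
      choose m hm h using hz
      refine ⟨-(n : S), N.neg_mem n.2, fun j => ⟨-(m j), N.neg_mem (hm j)⟩, fun j => ?_⟩
      have := h j
      rw [map_sub, Pi.sub_apply, Submodule.subtype_apply, Submodule.subtype_apply, hι,
        sub_eq_iff_eq_add] at this
      simp only [Submodule.coe_neg, mul_neg, smul_sub, smul_neg]
      rw [this]
      abel
  rw [Module.length_eq_add_of_exact F G hF hG hFG, add_comm]

end Groth.L21.ExtLattice
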