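import Mathlib.Algebra.Category.ModuleCat.Ext.HasExt
import Mathlib.Algebra.Homology.DerivedCategory.Ext.Linear
import Mathlib.RingTheory.Length

/-! Isomorphism invariance of the length of `Ext`. -/

set_option autoImplicit false
universe u

open CategoryTheory Abelian

namespace Groth.L21.ExtLattice

variable {A : Type u} [CommRing A] {M M' N N' : Type u} [AddCommGroup M] [AddCommGroup M']
  [AddCommGroup N] [AddCommGroup N'] [Module A M] [Module A M'] [Module A N] [Module A N']

/-- `Ext` is functorial in isomorphisms. -/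
noncomputable def extCongr (e : M ≃ₗ[A] M') (e' : N ≃ₗ[A] N') (i : ℕ) :
    Ext (ModuleCat.of A M) (ModuleCat.of A N) i ≃ₗ[A] Ext (ModuleCat.of A M') (ModuleCat.of A N') i :=
  LinearEquiv.ofLinear
    (((Ext.mk₀ (ModuleCat.ofHom e'.toLinearMap)).postcompOfLinear A _ (add_zero i)) ∘ₗ
      ((Ext.mk₀ (ModuleCat.ofHom e.symm.toLinearMap)).precompOfLinear A _ (zero_add i)))
    (((Ext.mk₀ (ModuleCat.ofHom e'.symm.toLinearMap)).postcompOfLinear A _ (add_zero i)) ∘ₗ
      ((Ext.mk₀ (ModuleCat.ofHom e.toLinearMap)).precompOfLinear A _ (zero_add i)))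
    (LinearMap.ext fun x => by
      simp [← ModuleCat.ofHom_comp, Ext.comp_assoc_of_third_deg_zero])
    (LinearMap.ext fun x => by
      simp [← ModuleCat.ofHom_comp, Ext.comp_assoc_of_third_deg_zero])

theorem length_ext_congr_submodule {V : Type u} [AddCommGroup V] [Module A V]
    {P P' Q Q' : Submodule A V} (e : ↥P ≃ₗ[A] ↥P') (e' : ↥Q ≃ₗ[A] ↥Q') (i : ℕ) :
    Module.length A (Ext (ModuleCat.of A ↥P) (ModuleCat.of A ↥Q) i) =
      Module.length A (Ext (ModuleCat.of A ↥P') (ModuleCat.of A ↥Q') i) :=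
  (extCongr e e' i).length_eq

end Groth.L21.ExtLattice
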