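import Groth.Agent.L21.ExtLattice.Mono
import Mathlib.Tactic.Ring
import Mathlib.Data.Nat.Lattice

/-! Monomial lattices over the cubical semigroup ring `k + tⁿk⟦t⟧`. -/

set_option autoImplicit false
universe u

open PowerSeries CategoryTheory
open Groth.L21.ExtLattice.Mono

namespace Groth.L21.ExtLattice.Cubical

variable {k : Type u} [Field k] (n : ℕ)

/-- `{0} ∪ [n, ∞)`. -/
def Gam : Set ℕ := {m | m = 0 ∨ n ≤ m}

/-- `{0} ∪ [s, s + r) ∪ [n, ∞)`. -/
def Del (s r : ℕ) : Set ℕ := {m | m = 0 ∨ (s ≤ m ∧ m < s + r) ∨ n ≤ m}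

theorem gam_zero : 0 ∈ Gam n := Or.inl rfl

theorem gam_add : ∀ a ∈ Gam n, ∀ b ∈ Gam n, a + b ∈ Gam n := fun a ha b hb => by
  simp only [Gam, Set.mem_ofPred_eq] at *; omega

theorem gam_del (s r : ℕ) : ∀ a ∈ Gam n, ∀ b ∈ Del n s r, a + b ∈ Del n s r := fun a ha b hb => by
  simp only [Gam, Del, Set.mem_ofPred_eq] at *; omega

variable {n} (A : Subalgebra k (PowerSeries k)) (hA : ∀ f, f ∈ A ↔ InSupp (Gam n) f)

include hA in
theorem span_eq (J : Finset ℕ) {s r : ℕ} (hsr : s + r ≤ n)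
    (hJ : ∀ m, m ∈ J ↔ m = 0 ∨ (s ≤ m ∧ m < s + r)) :
    Submodule.span A ((fun a => (X : PowerSeries k) ^ a) '' (J : Set ℕ)) =
      mset A hA (Del n s r) (gam_del n s r) := by
  refine span_eq_mset A hA J (Del n s r) _ (fun m => ?_) (gam_zero n)
  constructor
  · intro hm
    simp only [Del, Set.mem_ofPred_eq] at hm
    by_cases hn : n ≤ m
    · exact ⟨0, (hJ 0).2 (Or.inl rfl), m, Or.inr hn, zero_add m⟩
    · exact ⟨m, (hJ m).2 (by omega), 0, gam_zero n, add_zero m⟩
  · rintro ⟨a, ha, g, hg, rfl⟩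
    rw [hJ] at ha
    simp only [Gam, Del, Set.mem_ofPred_eq] at *; omega

include hA in
/-- `Ext¹(M, M)` for `M` spanned by `1` and `tʲ`, `s ≤ j < s + r`. -/
theorem length_ext (hn : 1 ≤ n) {s r : ℕ} (hs : 1 ≤ s) (hsr : s + r ≤ n) (J : Finset ℕ)
    (hJ : ∀ m, m ∈ J ↔ m = 0 ∨ (s ≤ m ∧ m < s + r)) (DY DC : Finset ℕ)
    (hDY : ∀ q, q ∈ DY ↔ (q ∈ Del n s r ∧ ∀ m, q ≤ m → m ∈ Del n s r) ∧ ¬ ∃ m ∈ Del n s r, n + m = q)
    (hDC : ∀ q, q ∈ DC ↔ q ∈ Del n s r ∧ ∃ j : Fin r, s + j + q ∉ Del n s r) :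
    Module.length A (Abelian.Ext
        (ModuleCat.of A ↥(Submodule.span A ((fun a => (X : PowerSeries k) ^ a) '' (J : Set ℕ))))
        (ModuleCat.of A ↥(Submodule.span A ((fun a => (X : PowerSeries k) ^ a) '' (J : Set ℕ)))) 1) +
      (DC.card : ℕ∞) = ((r * DY.card : ℕ) : ℕ∞) := by
  classical
  have key := length_ext_add A hA (gam_zero n) (gam_add n) (r := r) (fun j => s + j) (d := n)
    (Or.inr le_rfl) (fun j => Or.inr (Nat.le_add_right n _))
    (T := (fun a => (X : PowerSeries k) ^ a) '' (J : Set ℕ)) ?_ (gam_del n s r) _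
    (span_eq A hA J hsr hJ) (fun _ => {q | q ∈ Del n s r ∧ ∀ m, q ≤ m → m ∈ Del n s r}) ?_
    (fun _ => DY) (fun _ q => hDY q) ?_ DC hDC
  · simpa [Finset.sum_const, Finset.card_univ] using key
  · ext x
    constructor
    · rintro ⟨a, ha, rfl⟩
      rcases (hJ a).1 ha with rfl | ⟨h1, h2⟩
      · exact Or.inl (pow_zero _)
      · exact Or.inr ⟨⟨a - s, by omega⟩, by dsimp only; rw [show s + (a - s) = a by omega]⟩
    · rintro (rfl | ⟨j, rfl⟩)
      · exact ⟨0, (hJ 0).2 (Or.inl rfl), pow_zero _⟩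
      · exact ⟨s + j, (hJ _).2 (Or.inr ⟨by omega, by omega⟩), rfl⟩
  · intro y
    constructor
    · intro hy
      refine ⟨fun j q hq => (hy j q hq).1, fun a ha => ?_⟩
      have hc : ∀ j, InSupp {m | n ≤ m} (a j : PowerSeries k) := by
        intro j m hm
        rcases (hA _).1 (a j).2 m hm with rfl | h
        swap; · exact h
        exfalso
        have h1 : coeff (s + j) (∑ l, (a l : PowerSeries k) * X ^ (s + (l : ℕ))) ≠ 0 := by
          rw [map_sum, Finset.sum_eq_single j]
          · rw [coeff_mul_X_pow', if_pos le_rfl, Nat.sub_self]; exact hm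
          · intro l _ hlj
            rw [coeff_mul_X_pow']
            split_ifs with h
            · by_contra h'
              have h'' := (hA _).1 (a l).2 _ h'
              have : (l : ℕ) ≠ j := fun e => hlj (Fin.ext e)
              simp only [Gam, Set.mem_ofPred_eq] at h''
              omega
            · rfl
          · simp
        have := ha _ h1
        simp only [Gam, Set.mem_ofPred_eq] at this
        omega
      intro m hm
      rw [map_sum] at hm
      obtain ⟨j, -, hj⟩ := Finset.exists_ne_zero_of_sum_ne_zero hm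
      refine InSupp.mul (hc j) (hy j) ?_ m hj
      rintro p hp q ⟨-, hq⟩
      simp only [Set.mem_ofPred_eq] at hp
      exact ⟨p + q - n, hq _ (by omega), by omega⟩
    · rintro ⟨hy, h⟩ j q hq
      refine ⟨hy j q hq, fun m hm => ?_⟩
      have hp : n + (m - q) ∈ Gam n := Or.inr (Nat.le_add_right _ _)
      let p : A := xp A hA hp
      have h1 := h (Pi.single j p) (by
        rw [Finset.sum_eq_single j (fun l _ hlj => by simp [Pi.single_eq_of_ne hlj]) (by simp),
          Pi.single_eq_same]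
        change InSupp _ ((X : PowerSeries k) ^ _ * X ^ _)
        rw [← pow_add]
        exact InSupp.X_pow (Or.inr (by omega)))
      rw [Finset.sum_eq_single j (fun l _ hlj => by simp [Pi.single_eq_of_ne hlj]) (by simp),
        Pi.single_eq_same] at h1
      obtain ⟨q', hq', e⟩ := h1 (n + (m - q) + q) (by
        change coeff _ ((X : PowerSeries k) ^ (n + (m - q)) * y j) ≠ 0
        rwa [add_comm _ q, coeff_X_pow_mul])
      rwa [show m = q' by omega]
  · intro j q hq
    refine ⟨Or.inr (Or.inr (by omega)), fun m hm => Or.inr (Or.inr (by omega))⟩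

end Groth.L21.ExtLattice.Cubical
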