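import Mathlib.RingTheory.LocalRing.Length
import Mathlib.RingTheory.LocalRing.ResidueField.Basic
import Mathlib.RingTheory.Length
import Mathlib.LinearAlgebra.Isomorphisms
import Mathlib.LinearAlgebra.Dimension.Finite
import Mathlib.Algebra.Algebra.Tower

/-! Lengths over an augmented local `k`-algebra are `k`-dimensions. -/

set_option autoImplicit false
universe u v w

namespace Groth.L21.ExtLattice

variable {k : Type u} [Field k] {A : Type v} [CommRing A] [Algebra k A]

theorem length_eq_length_field (ε : A →ₐ[k] k) (hε : ∀ a, ε a ≠ 0 → IsUnit a) {V : Type w}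
    [AddCommGroup V] [Module A V] [Module k V] [IsScalarTower k A V] :
    Module.length A V = Module.length k V := by
  haveI : IsLocalHom ε.toRingHom := ⟨fun a ha => hε a ha.ne_zero⟩
  haveI : IsLocalRing A := RingHom.domain_isLocalRing ε.toRingHom
  haveI : IsLocalHom (algebraMap k A) := ⟨fun x hx => by
    have := (hx.map ε)
    rwa [AlgHom.commutes] at this⟩
  have h1 : Module.length (IsLocalRing.ResidueField k) (IsLocalRing.ResidueField A) = 1 := by
    have hsurj : Function.Surjective
        (algebraMap (IsLocalRing.ResidueField k) (IsLocalRing.ResidueField A)) := by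
      intro y
      obtain ⟨a, rfl⟩ := IsLocalRing.residue_surjective y
      refine ⟨IsLocalRing.residue k (ε a), ?_⟩
      change IsLocalRing.residue A (algebraMap k A (ε a)) = IsLocalRing.residue A a
      rw [← sub_eq_zero, ← map_sub, IsLocalRing.residue_eq_zero_iff, IsLocalRing.mem_maximalIdeal]
      intro h
      exact (h.map ε).ne_zero (by simp)
    rw [← Module.length_eq_of_surjective (M := IsLocalRing.ResidueField A) hsurj |>.symm,
      Module.length_eq_one_iff]
    infer_instance
  rw [IsLocalRing.length_restrictScalars k A V, h1, mul_one]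

/-- Compute the length of a quotient by a surjection to a `k`-space. -/
theorem length_quotient_eq_finrank (ε : A →ₐ[k] k) (hε : ∀ a, ε a ≠ 0 → IsUnit a) {V : Type w}
    [AddCommGroup V] [Module A V] [Module k V] [IsScalarTower k A V] (P Q : Submodule A V)
    {W : Type w} [AddCommGroup W] [Module k W] [Module.Finite k W] (φ : ↥P →ₗ[k] W)
    (hs : Function.Surjective φ) (hk : ∀ p : ↥P, φ p = 0 ↔ (p : V) ∈ Q) :
    Module.length A (↥P ⧸ Q.comap P.subtype) = (Module.finrank k W : ℕ∞) := by
  rw [length_eq_length_field ε hε, ← Module.length_eq_finrank]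
  have hker : LinearMap.ker φ = (Q.comap P.subtype).restrictScalars k :=
    Submodule.ext fun p => (hk p).trans Iff.rfl
  exact ((Submodule.Quotient.restrictScalarsEquiv k (Q.comap P.subtype)).symm.trans
    ((Submodule.quotEquivOfEq _ _ hker.symm).trans (φ.quotKerEquivOfSurjective hs))).length_eq

end Groth.L21.ExtLattice
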