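import Groth.Agent.L21.ExtLattice.Basic
import Groth.Agent.L21.ExtLattice.Length
import Mathlib.RingTheory.PowerSeries.Basic
import Mathlib.RingTheory.PowerSeries.Inverse
import Mathlib.LinearAlgebra.Dimension.Constructions

/-! Monomial lattices over monomial subrings of `k⟦t⟧`. -/

set_option autoImplicit false
universe u

open PowerSeries CategoryTheory

namespace Groth.L21.ExtLattice.Mono

variable {k : Type u} [Field k]

theorem enat_cancel {x : ℕ∞} {a b c : ℕ} (h : x + (b : ℕ∞) = (c : ℕ∞)) (hab : a + b = c) :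
    x = (a : ℕ∞) := by
  induction x using ENat.recTopCoe with
  | top => rw [top_add] at h; exact absurd h.symm (ENat.coe_ne_top c)
  | coe n =>
    rw [← Nat.cast_add, Nat.cast_inj] at h
    have : n = a := by omega
    rw [this]

/-- Supported in `Δ`. -/
def InSupp (Δ : Set ℕ) (f : PowerSeries k) : Prop := ∀ n, coeff n f ≠ 0 → n ∈ Δ

theorem InSupp.zero (Δ : Set ℕ) : InSupp Δ (0 : PowerSeries k) := fun n h => by simp at h

theorem InSupp.add {Δ : Set ℕ} {f g : PowerSeries k} (hf : InSupp Δ f) (hg : InSupp Δ g) :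
    InSupp Δ (f + g) := fun n h => by
  by_contra hn
  exact h (by rw [map_add, not_not.1 (mt (hf n) hn), not_not.1 (mt (hg n) hn), add_zero])

theorem InSupp.mul {Γ Δ Θ : Set ℕ} {f g : PowerSeries k} (hf : InSupp Γ f) (hg : InSupp Δ g)
    (h : ∀ a ∈ Γ, ∀ b ∈ Δ, a + b ∈ Θ) : InSupp Θ (f * g) := fun n hn => by
  rw [coeff_mul] at hn
  obtain ⟨p, hp, hpn⟩ := Finset.exists_ne_zero_of_sum_ne_zero hn
  rw [← Finset.HasAntidiagonal.mem_antidiagonal.1 hp]
  exact h _ (hf _ (left_ne_zero_of_mul hpn)) _ (hg _ (right_ne_zero_of_mul hpn))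

theorem InSupp.X_pow {Δ : Set ℕ} {n : ℕ} (h : n ∈ Δ) : InSupp Δ (X ^ n : PowerSeries k) :=
  fun m hm => by
    rw [coeff_X_pow] at hm
    split_ifs at hm with h'
    · exact h' ▸ h
    · exact absurd rfl hm

variable (A : Subalgebra k (PowerSeries k)) {Γ : Set ℕ} (hA : ∀ f, f ∈ A ↔ InSupp Γ f)

/-- The lattice of series supported in `Δ`. -/
def mset (Δ : Set ℕ) (hΔ : ∀ a ∈ Γ, ∀ b ∈ Δ, a + b ∈ Δ) : Submodule A (PowerSeries k) where
  carrier := {f | InSupp Δ f}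
  zero_mem' := InSupp.zero Δ
  add_mem' := InSupp.add
  smul_mem' := fun a _ hf => InSupp.mul ((hA a.1).1 a.2) hf hΔ

theorem mem_mset {Δ : Set ℕ} {hΔ : ∀ a ∈ Γ, ∀ b ∈ Δ, a + b ∈ Δ} {f : PowerSeries k} :
    f ∈ mset A hA Δ hΔ ↔ InSupp Δ f := Iff.rfl

/-- `X^n` as an element of `A`. -/
noncomputable def xp {n : ℕ} (hn : n ∈ Γ) : A := ⟨X ^ n, (hA _).2 (InSupp.X_pow hn)⟩

theorem xp_smul {n : ℕ} (hn : n ∈ Γ) (f : PowerSeries k) : xp A hA hn • f = X ^ n * f := rfl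

include hA in
theorem mem_span_of_inSupp (J : Finset ℕ) :
    ∀ f : PowerSeries k, InSupp {m | ∃ a ∈ J, ∃ g ∈ Γ, a + g = m} f →
      f ∈ Submodule.span A ((fun a => (X : PowerSeries k) ^ a) '' (J : Set ℕ)) := by
  classical
  induction J using Finset.induction_on with
  | empty =>
    intro f hf
    have : f = 0 := PowerSeries.ext fun n => by
      by_contra h
      obtain ⟨a, ha, -⟩ := hf n (by simpa using h)
      simp at ha
    rw [this]
    exact zero_mem _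
  | @insert a J _ ih =>
    intro f hf
    let g : PowerSeries k := mk fun m => if m ∈ Γ then coeff (a + m) f else 0
    have hg : g ∈ A := (hA g).2 fun m hm => by
      simp only [g, coeff_mk] at hm
      by_contra h
      exact hm (if_neg h)
    have hrest : InSupp {m | ∃ a ∈ J, ∃ g ∈ Γ, a + g = m} (f - g * X ^ a) := by
      intro m hm
      rw [map_sub, coeff_mul_X_pow'] at hm
      split_ifs at hm with ham
      · simp only [g, coeff_mk, Nat.add_sub_cancel' ham] at hm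
        split_ifs at hm with hΓ
        · exact absurd (sub_self _) hm
        · rw [sub_zero] at hm
          obtain ⟨b, hb, q, hq, rfl⟩ := hf m hm
          rcases Finset.mem_insert.1 hb with rfl | hb
          · exact absurd hq (by simpa using hΓ)
          · exact ⟨b, hb, q, hq, rfl⟩
      · rw [sub_zero] at hm
        obtain ⟨b, hb, q, hq, rfl⟩ := hf m hm
        rcases Finset.mem_insert.1 hb with rfl | hb
        · exact absurd (Nat.le_add_right _ _) ham
        · exact ⟨b, hb, q, hq, rfl⟩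
    have h1 := Submodule.span_mono (R := A)
      (Set.image_mono (f := fun a => (X : PowerSeries k) ^ a) (Finset.coe_subset.2
        (Finset.subset_insert a J))) (ih _ hrest)
    have h2 : g * X ^ a ∈ Submodule.span A
        ((fun a => (X : PowerSeries k) ^ a) '' ((insert a J : Finset ℕ) : Set ℕ)) :=
      Submodule.smul_mem _ (⟨g, hg⟩ : A) (Submodule.subset_span ⟨a, by simp, rfl⟩)
    have h3 := Submodule.add_mem _ h1 h2
    rwa [sub_add_cancel] at h3

theorem span_eq_mset (J : Finset ℕ) (Δ : Set ℕ) (hΔ : ∀ a ∈ Γ, ∀ b ∈ Δ, a + b ∈ Δ)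
    (h : ∀ m, m ∈ Δ ↔ ∃ a ∈ J, ∃ g ∈ Γ, a + g = m) (h0 : 0 ∈ Γ) :
    Submodule.span A ((fun a => (X : PowerSeries k) ^ a) '' (J : Set ℕ)) = mset A hA Δ hΔ := by
  refine le_antisymm (Submodule.span_le.2 ?_) fun f hf =>
    mem_span_of_inSupp A hA J f fun n hn => (h n).1 (hf n hn)
  rintro _ ⟨a, ha, rfl⟩
  exact InSupp.X_pow ((h a).2 ⟨a, ha, 0, h0, rfl⟩)

theorem span_pair_eq_mset (a : ℕ) (Δ : Set ℕ) (hΔ : ∀ a ∈ Γ, ∀ b ∈ Δ, a + b ∈ Δ)
    (h : ∀ m, m ∈ Δ ↔ m ∈ Γ ∨ ∃ g ∈ Γ, a + g = m) (h0 : 0 ∈ Γ) :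
    Submodule.span A ({1, (X : PowerSeries k) ^ a} : Set (PowerSeries k)) = mset A hA Δ hΔ := by
  classical
  rw [← span_eq_mset A hA {0, a} Δ hΔ (fun m => by rw [h]; simp) h0]
  congr 1
  simp [Set.image_pair]

theorem exists_xp_smul_iff {d : ℕ} (hd : d ∈ Γ) {Δ : Set ℕ} {hΔ : ∀ a ∈ Γ, ∀ b ∈ Δ, a + b ∈ Δ}
    (y : PowerSeries k) :
    (∃ n ∈ mset A hA Δ hΔ, y = xp A hA hd • n) ↔ InSupp {m | ∃ q ∈ Δ, d + q = m} y := by
  constructor
  · rintro ⟨n, hn, rfl⟩
    rw [xp_smul]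
    exact InSupp.mul (InSupp.X_pow (Δ := {d}) rfl) hn (fun a ha b hb => ⟨b, hb, by rw [ha]⟩)
  · intro hy
    refine ⟨mk fun m => coeff (d + m) y, fun m hm => ?_, PowerSeries.ext fun m => ?_⟩
    · rw [coeff_mk] at hm
      obtain ⟨q, hq, h⟩ := hy _ hm
      rwa [← Nat.add_left_cancel h]
    · rw [xp_smul, coeff_X_pow_mul']
      split_ifs with h
      · rw [coeff_mk, Nat.add_sub_cancel' h]
      · by_contra hne
        obtain ⟨q, -, hq⟩ := hy m hne
        omega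

/-- The augmentation. -/
noncomputable def eps : A →ₐ[k] k :=
  { (constantCoeff : PowerSeries k →+* k).comp A.val.toRingHom with
    commutes' := fun x => by
      change constantCoeff ((algebraMap k A x : A) : PowerSeries k) = x
      rw [Subalgebra.coe_algebraMap, PowerSeries.algebraMap_apply]
      simp }

include hA in
theorem isUnit_of_eps (h0 : 0 ∈ Γ) (hadd : ∀ a ∈ Γ, ∀ b ∈ Γ, a + b ∈ Γ) (a : A)
    (ha : eps A a ≠ 0) : IsUnit a := by
  have ha' : constantCoeff (a : PowerSeries k) ≠ 0 := ha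
  obtain ⟨g, hg⟩ := (PowerSeries.isUnit_iff_constantCoeff.2 (isUnit_iff_ne_zero.2 ha')).exists_right_inv
  have hmem : InSupp Γ g := by
    intro n
    induction n using Nat.strong_induction_on with
    | _ n ih =>
      intro hn
      by_contra hnΓ
      apply hn
      have h := congrArg (coeff n) hg
      have hn0 : n ≠ 0 := fun e => hnΓ (e ▸ h0)
      rw [coeff_mul, coeff_one, if_neg hn0, Finset.sum_eq_single (0, n)] at h
      · rw [coeff_zero_eq_constantCoeff_apply] at h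
        exact (mul_eq_zero.1 h).resolve_left ha'
      · intro p hp hne
        rw [Finset.HasAntidiagonal.mem_antidiagonal] at hp
        by_contra hp0
        have h1 := (hA a).1 a.2 p.1 (left_ne_zero_of_mul hp0)
        have hp1 : p.1 ≠ 0 := fun e => hne (Prod.ext e (by simp [e] at hp ⊢; exact hp))
        have h2 := ih p.2 (by omega) (right_ne_zero_of_mul hp0)
        exact hnΓ (hp ▸ hadd _ h1 _ h2)
      · intro h'
        exact absurd (Finset.HasAntidiagonal.mem_antidiagonal.2 (zero_add n)) h'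
  exact IsUnit.of_mul_eq_one (⟨g, (hA g).2 hmem⟩ : A) (Subtype.ext hg)

theorem length_pi_quotient {R : Type u} [CommRing R] [Algebra k R] [Algebra R (PowerSeries k)]
    [IsScalarTower k R (PowerSeries k)] (ε : R →ₐ[k] k) (hε : ∀ a, ε a ≠ 0 → IsUnit a) {r : ℕ}
    (P Q : Submodule R (Fin r → PowerSeries k)) (Δ Δ' : Fin r → Set ℕ) (D : Fin r → Finset ℕ)
    (hP : ∀ y, y ∈ P ↔ ∀ j, InSupp (Δ j) (y j)) (hQ : ∀ y, y ∈ Q ↔ ∀ j, InSupp (Δ' j) (y j))
    (hsub : ∀ j m, m ∈ Δ' j → m ∈ Δ j) (hD : ∀ j m, m ∈ D j ↔ m ∈ Δ j ∧ m ∉ Δ' j) :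
    Module.length R (↥P ⧸ Q.comap P.subtype) = ((∑ j, (D j).card : ℕ) : ℕ∞) := by
  classical
  let φ : ↥P →ₗ[k] ((j : Fin r) → ↥(D j) → k) :=
    LinearMap.pi fun j => LinearMap.pi fun i =>
      (coeff (R := k) i.1) ∘ₗ (LinearMap.proj j) ∘ₗ (P.subtype.restrictScalars k)
  have hφ : ∀ (p : ↥P) j i, φ p j i = coeff i.1 ((p : Fin r → PowerSeries k) j) := fun _ _ _ => rfl
  rw [length_quotient_eq_finrank ε hε P Q φ]
  · rw [Module.finrank_pi_fintype]
    congr 1
    exact Finset.sum_congr rfl fun j _ => by rw [Module.finrank_pi, Fintype.card_coe]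
  · intro w
    refine ⟨⟨fun j => mk fun m => if h : m ∈ D j then w j ⟨m, h⟩ else 0, (hP _).2 fun j m hm => ?_⟩,
      funext fun j => funext fun i => ?_⟩
    · rw [coeff_mk] at hm
      by_contra h
      exact hm (dif_neg fun h' => h ((hD j m).1 h').1)
    · rw [hφ]
      simp only [coeff_mk, dif_pos i.2]
  · intro p
    rw [hQ]
    constructor
    · intro h j m hm
      by_contra hm'
      exact hm (congrFun (congrFun h j) ⟨m, (hD j m).2 ⟨(hP _).1 p.2 j m hm, hm'⟩⟩)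
    · intro h
      funext j i
      rw [hφ]
      by_contra hne
      exact ((hD j i.1).1 i.2).2 (h j i.1 hne)

theorem length_quotient {R : Type u} [CommRing R] [Algebra k R] [Algebra R (PowerSeries k)]
    [IsScalarTower k R (PowerSeries k)] (ε : R →ₐ[k] k) (hε : ∀ a, ε a ≠ 0 → IsUnit a)
    (P Q : Submodule R (PowerSeries k)) (Δ Δ' : Set ℕ) (D : Finset ℕ)
    (hP : ∀ y, y ∈ P ↔ InSupp Δ y) (hQ : ∀ y, y ∈ Q ↔ InSupp Δ' y)
    (hD : ∀ m, m ∈ D ↔ m ∈ Δ ∧ m ∉ Δ') :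
    Module.length R (↥P ⧸ Q.comap P.subtype) = (D.card : ℕ∞) := by
  classical
  let φ : ↥P →ₗ[k] (↥D → k) :=
    LinearMap.pi fun i => (coeff (R := k) i.1) ∘ₗ (P.subtype.restrictScalars k)
  have hφ : ∀ (p : ↥P) i, φ p i = coeff i.1 (p : PowerSeries k) := fun _ _ => rfl
  rw [length_quotient_eq_finrank ε hε P Q φ]
  · rw [Module.finrank_pi, Fintype.card_coe]
  · intro w
    refine ⟨⟨mk fun m => if h : m ∈ D then w ⟨m, h⟩ else 0, (hP _).2 fun m hm => ?_⟩,
      funext fun i => ?_⟩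
    · rw [coeff_mk] at hm
      by_contra h
      exact hm (dif_neg fun h' => h ((hD m).1 h').1)
    · rw [hφ]
      simp only [coeff_mk, dif_pos i.2]
  · intro p
    rw [hQ]
    constructor
    · intro h m hm
      by_contra hm'
      exact hm (congrFun h ⟨m, (hD m).2 ⟨(hP _).1 p.2 m hm, hm'⟩⟩)
    · intro h
      funext i
      rw [hφ]
      by_contra hne
      exact ((hD i.1).1 i.2).2 (h i.1 hne)

theorem length_quotient_of_equiv {R : Type u} [CommRing R] [Algebra k R] [Algebra R (PowerSeries k)]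
    [IsScalarTower k R (PowerSeries k)] (ε : R →ₐ[k] k) (hε : ∀ a, ε a ≠ 0 → IsUnit a)
    {V : Type u} [AddCommGroup V] [Module R V] (e : V ≃ₗ[R] PowerSeries k) (Q : Submodule R V)
    (Δ' : Set ℕ) (D : Finset ℕ) (hQ : ∀ v, v ∈ Q ↔ InSupp Δ' (e v))
    (hD : ∀ m, m ∈ D ↔ m ∉ Δ') :
    Module.length R (V ⧸ Q) = (D.card : ℕ∞) := by
  have h1 : Q.map (e.trans Submodule.topEquiv.symm).toLinearMap =
      (Q.map e.toLinearMap).comap (⊤ : Submodule R (PowerSeries k)).subtype := by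
    ext ⟨x, hx⟩
    constructor
    · rintro ⟨v, hv, hvx⟩
      exact ⟨v, hv, congrArg Subtype.val hvx⟩
    · rintro ⟨v, hv, hvx⟩
      exact ⟨v, hv, Subtype.ext hvx⟩
  rw [(Submodule.Quotient.equiv Q _ (e.trans Submodule.topEquiv.symm) h1).length_eq]
  refine length_quotient ε hε ⊤ (Q.map e.toLinearMap) Set.univ Δ' D
    (fun y => ⟨fun _ _ _ => trivial, fun _ => trivial⟩) (fun y => ?_) (fun m => by simp [hD])
  rw [Submodule.mem_map_equiv, hQ, LinearEquiv.apply_symm_apply]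

/-- The main computation for monomial data. -/
theorem length_ext_add (h0 : 0 ∈ Γ) (hadd : ∀ a ∈ Γ, ∀ b ∈ Γ, a + b ∈ Γ) {r : ℕ} (w : Fin r → ℕ)
    {d : ℕ} (hd : d ∈ Γ) (hdw : ∀ j, d + w j ∈ Γ)
    {T : Set (PowerSeries k)} (hT : T = insert 1 (Set.range fun j => (X : PowerSeries k) ^ w j))
    {Δ : Set ℕ} (hΔ : ∀ a ∈ Γ, ∀ b ∈ Δ, a + b ∈ Δ) (N : Submodule A (PowerSeries k))
    (hN : N = mset A hA Δ hΔ) (ΔY : Fin r → Set ℕ)
    (hY : ∀ y : Fin r → PowerSeries k, (∀ j, InSupp (ΔY j) (y j)) ↔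
      (∀ j, InSupp Δ (y j)) ∧ ∀ a : Fin r → A,
        InSupp Γ (∑ j, (a j : PowerSeries k) * X ^ w j) →
          InSupp {m | ∃ q ∈ Δ, d + q = m} (∑ j, (a j : PowerSeries k) * y j))
    (DY : Fin r → Finset ℕ) (hDY : ∀ j m, m ∈ DY j ↔ m ∈ ΔY j ∧ ¬ ∃ q ∈ Δ, d + q = m)
    (hEY : ∀ j, ∀ q ∈ Δ, d + q ∈ ΔY j)
    (DC : Finset ℕ) (hDC : ∀ m, m ∈ DC ↔ m ∈ Δ ∧ ∃ j, w j + m ∉ Δ) :
    Module.length A (Abelian.Ext (ModuleCat.of A ↥(Submodule.span A T)) (ModuleCat.of A ↥N) 1) +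
      (DC.card : ℕ∞) = ((∑ j, (DY j).card : ℕ) : ℕ∞) := by
  classical
  subst hN
  let ΔE : Set ℕ := {m | ∃ q ∈ Δ, d + q = m}
  let ΔC : Set ℕ := {m | m ∈ Δ ∧ ∀ j, w j + m ∈ Δ}
  let P : Submodule A (Fin r → PowerSeries k) :=
    { carrier := {y | ∀ j, InSupp (ΔY j) (y j)}
      zero_mem' := fun j => InSupp.zero _
      add_mem' := fun hy hz j => InSupp.add (hy j) (hz j)
      smul_mem' := fun t y hy => by
        obtain ⟨h1, h2⟩ := (hY y).1 hy
        refine (hY _).2 ⟨fun j => InSupp.mul ((hA _).1 t.2) (h1 j) hΔ, fun a ha => ?_⟩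
        have : ∑ j, (a j : PowerSeries k) * (t • y) j =
            (t : PowerSeries k) * ∑ j, (a j : PowerSeries k) * y j := by
          rw [Finset.mul_sum]
          exact Finset.sum_congr rfl fun j _ => by
            change _ * ((t : PowerSeries k) * y j) = _
            ring
        rw [this]
        refine InSupp.mul ((hA _).1 t.2) (h2 a ha) ?_
        rintro g hg b ⟨q, hq, rfl⟩
        exact ⟨g + q, hΔ g hg q hq, by ring⟩ }
  have hΔE : ∀ a ∈ Γ, ∀ b ∈ ΔE, a + b ∈ ΔE := by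
    rintro g hg b ⟨q, hq, rfl⟩
    exact ⟨g + q, hΔ g hg q hq, by ring⟩
  let E : Submodule A (Fin r → PowerSeries k) := Submodule.pi Set.univ fun _ => mset A hA ΔE hΔE
  have hΔC : ∀ a ∈ Γ, ∀ b ∈ ΔC, a + b ∈ ΔC := by
    rintro g hg b ⟨hb, hb'⟩
    exact ⟨hΔ g hg b hb, fun j => by rw [add_left_comm]; exact hΔ g hg _ (hb' j)⟩
  have hsum : ∀ (a : Fin r → A) (z : Fin r → PowerSeries k),
      ∑ j, a j • z j = ∑ j, (a j : PowerSeries k) * z j := fun _ _ => rfl
  have key := length_ext_one_add (A := A) (S := PowerSeries k) (M := Submodule.span A T)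
    (N := mset A hA Δ hΔ) (T := T) rfl (fun j => (X : PowerSeries k) ^ w j) hT
    (xp A hA hd) (fun x hx => (mul_eq_zero.1 hx).resolve_left (pow_ne_zero _ X_ne_zero))
    Subtype.val_injective (fun j => xp A hA (hdw j))
    (fun j => pow_add _ _ _) P E (mset A hA ΔC hΔC) ?_ ?_ ?_
  · rw [length_pi_quotient (eps A) (isUnit_of_eps A hA h0 hadd) P E ΔY (fun _ => ΔE) DY (fun y => Iff.rfl)
        (fun y => by simp [E, mem_mset]) (fun j m => by rintro ⟨q, hq, rfl⟩; exact hEY j q hq) hDY,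
      length_quotient (eps A) (isUnit_of_eps A hA h0 hadd) (mset A hA Δ hΔ) (mset A hA ΔC hΔC) Δ ΔC DC (fun y => Iff.rfl)
        (fun y => Iff.rfl) (fun m => by rw [hDC]; simp only [ΔC, Set.mem_setOf_eq, not_and, not_forall]; tauto)] at key
    exact key
  · intro y
    refine (hY y).trans (and_congr Iff.rfl (forall_congr' fun a => ?_))
    rw [hsum, hsum, Submodule.mem_one]
    refine imp_congr ⟨fun h => ⟨⟨_, (hA _).2 h⟩, rfl⟩, ?_⟩ (exists_xp_smul_iff A hA hd (hΔ := hΔ) _).symm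
    rintro ⟨z, hz⟩
    rw [← hz]
    exact (hA _).1 z.2
  · intro y
    simp only [E, Submodule.mem_pi, Set.mem_univ, true_implies, mem_mset]
    exact forall_congr' fun j => (exists_xp_smul_iff A hA hd (hΔ := hΔ) _).symm
  · intro x
    constructor
    · intro hx
      exact ⟨fun n hn => (hx n hn).1, fun j =>
        InSupp.mul (InSupp.X_pow (Δ := {w j}) rfl) hx (by rintro a rfl b hb; exact hb.2 j)⟩
    · rintro ⟨hx, hx'⟩ n hn
      refine ⟨hx n hn, fun j => hx' j (w j + n) ?_⟩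
      rwa [show w j + n = n + w j from add_comm _ _, coeff_X_pow_mul]

/-- The two-generator case. -/
theorem length_ext_add_one (h0 : 0 ∈ Γ) (hadd : ∀ a ∈ Γ, ∀ b ∈ Γ, a + b ∈ Γ) {a d : ℕ}
    (hd : d ∈ Γ) (hda : d + a ∈ Γ)
    {Δ : Set ℕ} (hΔ : ∀ a ∈ Γ, ∀ b ∈ Δ, a + b ∈ Δ) (N : Submodule A (PowerSeries k))
    (hN : N = mset A hA Δ hΔ) (DY DC : Finset ℕ)
    (hDY : ∀ q, q ∈ DY ↔ (q ∈ Δ ∧ ∀ p ∈ Γ, p + a ∈ Γ → ∃ n ∈ Δ, d + n = p + q) ∧ ¬ ∃ n ∈ Δ, d + n = q)
    (hDC : ∀ q, q ∈ DC ↔ q ∈ Δ ∧ a + q ∉ Δ) :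
    Module.length A (Abelian.Ext
        (ModuleCat.of A ↥(Submodule.span A ({1, (X : PowerSeries k) ^ a} : Set (PowerSeries k))))
        (ModuleCat.of A ↥N) 1) + (DC.card : ℕ∞) = (DY.card : ℕ∞) := by
  have := length_ext_add A hA h0 hadd (r := 1) (fun _ => a) hd (fun _ => hda)
    (T := {1, (X : PowerSeries k) ^ a}) (by rw [Set.range_const]) hΔ N hN
    (fun _ => {q | q ∈ Δ ∧ ∀ p ∈ Γ, p + a ∈ Γ → ∃ n ∈ Δ, d + n = p + q}) ?_ (fun _ => DY)
    (fun _ m => hDY m) ?_ DC (fun m => by rw [hDC]; simp)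
  · simpa using this
  · intro y
    simp only [Fin.forall_fin_one, Fin.sum_univ_one]
    constructor
    · intro hy
      refine ⟨fun n hn => (hy n hn).1, fun z hz => ?_⟩
      have hz' : InSupp {p | p ∈ Γ ∧ p + a ∈ Γ} (z 0 : PowerSeries k) := fun p hp =>
        ⟨(hA _).1 (z 0).2 p hp, hz _ (by rwa [coeff_mul_X_pow])⟩
      exact InSupp.mul hz' hy fun p hp q hq => hq.2 p hp.1 hp.2
    · rintro ⟨hy, h⟩ q hq
      refine ⟨hy q hq, fun p hp hpa => ?_⟩
      have h1 := h (fun _ => xp A hA hp) (by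
        change InSupp Γ ((X : PowerSeries k) ^ p * X ^ a)
        rw [← pow_add]; exact InSupp.X_pow hpa)
      exact h1 (p + q) (by
        change coeff (p + q) ((X : PowerSeries k) ^ p * y 0) ≠ 0
        rwa [show p + q = q + p from add_comm _ _, coeff_X_pow_mul])
  · intro j q hq
    exact ⟨by simpa [add_comm] using hΔ d hd q hq,
      fun p hp _ => ⟨p + q, hΔ p hp q hq, by ring⟩⟩

end Groth.L21.ExtLattice.Mono
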