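import Groth.Agent.L21.ExtLattice.Basic
import Groth.Agent.L21.ExtLattice.Length
import Groth.Agent.L21.ExtLattice.Congr
import Mathlib.RingTheory.PowerSeries.Basic
import Mathlib.RingTheory.PowerSeries.Inverse
import Mathlib.RingTheory.PowerSeries.Order
import Mathlib.LinearAlgebra.Dimension.Constructions

/-! Rank-one lattices over `{(f, g) : t^δ ∣ f - g}`. -/

set_option autoImplicit false
universe u

open PowerSeries CategoryTheory

namespace Groth.L21.ExtLattice.Pairs

variable {k : Type u} [Field k]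

theorem dvd_iff_le_order {n : ℕ} {f : PowerSeries k} :
    (n : ℕ∞) ≤ f.order ↔ X ^ n ∣ f :=
  ⟨fun h => X_pow_dvd_iff.2 fun m hm => coeff_of_lt_order m (lt_of_lt_of_le (Nat.cast_lt.2 hm) h),
    fun h => nat_le_order f n fun m hm => X_pow_dvd_iff.1 h m hm⟩

theorem X_pow_dvd_mul_iff {a b : ℕ} {x : PowerSeries k} : X ^ b ∣ X ^ a * x ↔ X ^ (b - a) ∣ x := by
  constructor
  · intro h
    by_cases hab : a ≤ b
    · rw [← Nat.add_sub_cancel' hab, pow_add] at h
      exact (mul_dvd_mul_iff_left (pow_ne_zero a X_ne_zero)).1 h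
    · rw [show b - a = 0 by omega, pow_zero]
      exact one_dvd x
  · intro h
    exact (pow_dvd_pow X (show b ≤ a + (b - a) by omega)).trans (by
      rw [pow_add]; exact mul_dvd_mul_left _ h)

variable {R : Type u} [CommRing R] [Algebra k R] [Algebra R (PowerSeries k × PowerSeries k)] [IsScalarTower k R (PowerSeries k × PowerSeries k)]
  (ε : R →ₐ[k] k) (hε : ∀ a, ε a ≠ 0 → IsUnit a)

include hε in
theorem length_Y_quotient {b c i : ℕ} (hci : c ≤ i) (P E : Submodule R (Fin 1 → (PowerSeries k × PowerSeries k)))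
    (hP : ∀ y, y ∈ P ↔ X ^ b ∣ (y 0).1 - (y 0).2 ∧ X ^ c ∣ (y 0).1)
    (hE : ∀ y, y ∈ E ↔ X ^ (b + i) ∣ (y 0).1 - (y 0).2 ∧ X ^ i ∣ (y 0).1) :
    Module.length R (↥P ⧸ E.comap P.subtype) = ((i - c + i : ℕ) : ℕ∞) := by
  let φ : ↥P →ₗ[k] (↥(Finset.Ico c i) → k) × (↥(Finset.Ico b (b + i)) → k) :=
    LinearMap.prod
      (LinearMap.pi fun m => (coeff (R := k) m.1) ∘ₗ (LinearMap.fst k _ _) ∘ₗ (LinearMap.proj 0) ∘ₗ
        (P.subtype.restrictScalars k))
      (LinearMap.pi fun m => (coeff (R := k) m.1) ∘ₗ (LinearMap.fst k _ _ - LinearMap.snd k _ _) ∘ₗ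
        (LinearMap.proj 0) ∘ₗ (P.subtype.restrictScalars k))
  have h1 : ∀ (p : ↥P) m, (φ p).1 m = coeff m.1 ((p : Fin 1 → (PowerSeries k × PowerSeries k)) 0).1 := fun _ _ => rfl
  have h2 : ∀ (p : ↥P) m,
      (φ p).2 m = coeff m.1 (((p : Fin 1 → (PowerSeries k × PowerSeries k)) 0).1 - ((p : Fin 1 → (PowerSeries k × PowerSeries k)) 0).2) := fun _ _ => rfl
  rw [length_quotient_eq_finrank ε hε P E φ]
  · rw [Module.finrank_prod, Module.finrank_pi, Module.finrank_pi, Fintype.card_coe,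
      Fintype.card_coe, Nat.card_Ico, Nat.card_Ico, Nat.add_sub_cancel_left]
  · rintro ⟨w₁, w₂⟩
    let f : PowerSeries k := mk fun m => if h : m ∈ Finset.Ico c i then w₁ ⟨m, h⟩ else 0
    let g : PowerSeries k := mk fun m => if h : m ∈ Finset.Ico b (b + i) then w₂ ⟨m, h⟩ else 0
    refine ⟨⟨fun _ => (f, f - g), (hP _).2 ⟨?_, ?_⟩⟩, Prod.ext (funext fun m => ?_) (funext fun m => ?_)⟩
    · rw [sub_sub_cancel, X_pow_dvd_iff]
      intro m hm
      rw [coeff_mk, dif_neg (by simp; omega)]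
    · rw [X_pow_dvd_iff]
      intro m hm
      rw [coeff_mk, dif_neg (by simp; omega)]
    · rw [h1]
      simp only [f, coeff_mk, dif_pos m.2]
    · rw [h2]
      simp only [g, sub_sub_cancel, coeff_mk, dif_pos m.2]
  · intro p
    rw [hE]
    have hp := (hP _).1 p.2
    constructor
    · intro h
      constructor
      · rw [X_pow_dvd_iff]
        intro m hm
        by_cases hb : m < b
        · exact X_pow_dvd_iff.1 hp.1 m hb
        · have := congrFun (congrArg Prod.snd h) ⟨m, Finset.mem_Ico.2 ⟨not_lt.1 hb, hm⟩⟩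
          rwa [h2] at this
      · rw [X_pow_dvd_iff]
        intro m hm
        by_cases hb : m < c
        · exact X_pow_dvd_iff.1 hp.2 m hb
        · have := congrFun (congrArg Prod.fst h) ⟨m, Finset.mem_Ico.2 ⟨not_lt.1 hb, hm⟩⟩
          rwa [h1] at this
    · rintro ⟨hd, hf⟩
      refine Prod.ext (funext fun m => ?_) (funext fun m => ?_)
      · rw [h1]
        exact X_pow_dvd_iff.1 hf _ (Finset.mem_Ico.1 m.2).2
      · rw [h2]
        exact X_pow_dvd_iff.1 hd _ (Finset.mem_Ico.1 m.2).2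

include hε in
theorem length_C_quotient {b c : ℕ} (N C : Submodule R (PowerSeries k × PowerSeries k))
    (hN : ∀ y, y ∈ N ↔ X ^ b ∣ y.1 - y.2) (hC : ∀ y, y ∈ C ↔ X ^ b ∣ y.1 - y.2 ∧ X ^ c ∣ y.1) :
    Module.length R (↥N ⧸ C.comap N.subtype) = (c : ℕ∞) := by
  let φ : ↥N →ₗ[k] (↥(Finset.range c) → k) :=
    LinearMap.pi fun m => (coeff (R := k) m.1) ∘ₗ (LinearMap.fst k _ _) ∘ₗ (N.subtype.restrictScalars k)
  have h1 : ∀ (p : ↥N) m, φ p m = coeff m.1 (p : (PowerSeries k × PowerSeries k)).1 := fun _ _ => rfl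
  rw [length_quotient_eq_finrank ε hε N C φ]
  · rw [Module.finrank_pi, Fintype.card_coe, Finset.card_range]
  · intro w
    let f : PowerSeries k := mk fun m => if h : m ∈ Finset.range c then w ⟨m, h⟩ else 0
    refine ⟨⟨(f, f), (hN _).2 (by simp)⟩, funext fun m => ?_⟩
    rw [h1]
    simp only [f, coeff_mk, dif_pos m.2]
  · intro p
    rw [hC]
    constructor
    · intro h
      refine ⟨(hN _).1 p.2, X_pow_dvd_iff.2 fun m hm => ?_⟩
      have := congrFun h ⟨m, Finset.mem_range.2 hm⟩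
      rwa [h1] at this
    · rintro ⟨-, hf⟩
      funext m
      rw [h1]
      exact X_pow_dvd_iff.1 hf _ (Finset.mem_range.1 m.2)

variable (O : Subalgebra k (PowerSeries k × PowerSeries k)) {δ : ℕ} (hO : ∀ f, f ∈ O ↔ X ^ δ ∣ f.1 - f.2)

/-- `{(f, g) : t^m ∣ f - g}`. -/
def B (m : ℕ) (hm : m ≤ δ) : Submodule O (PowerSeries k × PowerSeries k) where
  carrier := {f | X ^ m ∣ f.1 - f.2}
  zero_mem' := by simp
  add_mem' := fun {f g} hf hg => by
    change X ^ m ∣ (f + g).1 - (f + g).2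
    rw [Prod.fst_add, Prod.snd_add, add_sub_add_comm]
    exact dvd_add hf hg
  smul_mem' := fun a f hf => by
    change X ^ m ∣ (a : (PowerSeries k × PowerSeries k)).1 * f.1 - (a : (PowerSeries k × PowerSeries k)).2 * f.2
    rw [show (a : (PowerSeries k × PowerSeries k)).1 * f.1 - (a : (PowerSeries k × PowerSeries k)).2 * f.2 =
      ((a : (PowerSeries k × PowerSeries k)).1 - (a : (PowerSeries k × PowerSeries k)).2) * f.1 + (a : (PowerSeries k × PowerSeries k)).2 * (f.1 - f.2) by ring]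
    exact dvd_add (Dvd.dvd.mul_right ((pow_dvd_pow X hm).trans ((hO a).1 a.2)) _)
      (Dvd.dvd.mul_left hf _)

include hO in
theorem isUnit_of_constantCoeff (hδ : 1 ≤ δ) (a : O)
    (ha : constantCoeff (a : (PowerSeries k × PowerSeries k)).1 ≠ 0) : IsUnit a := by
  have h : constantCoeff (a : (PowerSeries k × PowerSeries k)).2 = constantCoeff (a : (PowerSeries k × PowerSeries k)).1 := by
    have := X_pow_dvd_iff.1 ((hO a).1 a.2) 0 hδ
    rw [coeff_zero_eq_constantCoeff_apply, map_sub, sub_eq_zero] at this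
    exact this.symm
  have hu1 : IsUnit (a : (PowerSeries k × PowerSeries k)).1 := PowerSeries.isUnit_iff_constantCoeff.2 (isUnit_iff_ne_zero.2 ha)
  have hu2 : IsUnit (a : (PowerSeries k × PowerSeries k)).2 :=
    PowerSeries.isUnit_iff_constantCoeff.2 (isUnit_iff_ne_zero.2 (by rwa [h]))
  obtain ⟨g₁, hg₁⟩ := hu1.exists_right_inv
  obtain ⟨g₂, hg₂⟩ := hu2.exists_right_inv
  have hg : (g₁, g₂) ∈ O := by
    rw [hO]
    have := (hO a).1 a.2
    rw [show (g₁, g₂).1 - (g₁, g₂).2 = -(g₁ * g₂) * ((a : (PowerSeries k × PowerSeries k)).1 - (a : (PowerSeries k × PowerSeries k)).2) by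
      simp only; linear_combination g₂ * hg₁ - g₁ * hg₂]
    exact Dvd.dvd.mul_left this _
  exact IsUnit.of_mul_eq_one (⟨_, hg⟩ : O) (Subtype.ext (Prod.ext hg₁ hg₂))

include hO in
theorem span_eq_B {a : ℕ} (ha : a ≤ δ) :
    Submodule.span O ({1, (X ^ a, 0)} : Set (PowerSeries k × PowerSeries k)) = B O hO a ha := by
  refine le_antisymm (Submodule.span_le.2 ?_) ?_
  · rintro x (rfl | rfl)
    · change X ^ a ∣ (1 : PowerSeries k) - 1; simp
    · change X ^ a ∣ X ^ a - (0 : PowerSeries k); simp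
  · intro f hf
    obtain ⟨g, hg⟩ := hf
    rw [Submodule.mem_span_pair]
    refine ⟨⟨(f.2, f.2), (hO _).2 (by simp)⟩, ⟨(g, g), (hO _).2 (by simp)⟩, ?_⟩
    apply Prod.ext
    · change f.2 * 1 + g * X ^ a = f.1
      linear_combination -hg
    · change f.2 * 1 + g * 0 = f.2
      ring

/-- Multiplication by a non-zero-divisor on spans. -/
noncomputable def spanEquiv (z : (PowerSeries k × PowerSeries k)) (hz : Function.Injective fun f => z * f) (T : Set (PowerSeries k × PowerSeries k)) :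
    ↥(Submodule.span O T) ≃ₗ[O] ↥(Submodule.span O ((fun f => z * f) '' T)) :=
  (Submodule.equivMapOfInjective (LinearMap.mulLeft O z) hz _).trans
    (LinearEquiv.ofEq _ _ (Submodule.map_span _ _))

include hO in
theorem length_ext (hδ : 1 ≤ δ) {i j : ℕ} (hi : i ≤ δ) (hj : j ≤ δ) :
    Module.length O (Abelian.Ext
      (ModuleCat.of O ↥(Submodule.span O ({1, (X ^ (δ - i), 0)} : Set (PowerSeries k × PowerSeries k))))
      (ModuleCat.of O ↥(Submodule.span O ({1, (X ^ (δ - j), 0)} : Set (PowerSeries k × PowerSeries k)))) 1) =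
    ((2 * min i j : ℕ) : ℕ∞) := by
  set a := δ - i with ha
  set b := δ - j with hb
  let ε : O →ₐ[k] k :=
    { (constantCoeff : PowerSeries k →+* k).comp ((RingHom.fst _ _).comp O.val.toRingHom) with
      commutes' := fun x => by
        change constantCoeff ((algebraMap k O x : O) : (PowerSeries k × PowerSeries k)).1 = x
        rw [Subalgebra.coe_algebraMap, Prod.algebraMap_apply, PowerSeries.algebraMap_apply]
        simp }
  have hε : ∀ x, ε x ≠ 0 → IsUnit x := fun x hx => isUnit_of_constantCoeff O hO hδ x hx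
  rw [span_eq_B O hO (show b ≤ δ by omega)]
  let e : O := ⟨(X ^ i, X ^ i), (hO _).2 (by simp)⟩
  have hcm : ((X ^ δ, 0) : (PowerSeries k × PowerSeries k)) ∈ O := (hO _).2 (by simp)
  let c : O := ⟨(X ^ δ, 0), hcm⟩
  let C : Submodule O (PowerSeries k × PowerSeries k) :=
    { carrier := {f | X ^ b ∣ f.1 - f.2 ∧ X ^ (b - a) ∣ f.1}
      zero_mem' := by simp
      add_mem' := fun {f g} hf hg => ⟨(B O hO b (by omega)).add_mem hf.1 hg.1, dvd_add hf.2 hg.2⟩
      smul_mem' := fun t f hf => ⟨(B O hO b (by omega)).smul_mem t hf.1,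
        Dvd.dvd.mul_left hf.2 (t : (PowerSeries k × PowerSeries k)).1⟩ }
  let E₀ : Submodule O (PowerSeries k × PowerSeries k) := (B O hO b (by omega)).map (LinearMap.lsmul O (PowerSeries k × PowerSeries k) e)
  have hE₀ : ∀ f, f ∈ E₀ ↔ X ^ (b + i) ∣ f.1 - f.2 ∧ X ^ i ∣ f.1 := by
    intro f
    rw [Submodule.mem_map]
    constructor
    · rintro ⟨g, ⟨d, hd⟩, rfl⟩
      refine ⟨⟨d, ?_⟩, ⟨g.1, rfl⟩⟩
      change X ^ i * g.1 - X ^ i * g.2 = X ^ (b + i) * d
      rw [pow_add, ← mul_sub, hd]; ring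
    · rintro ⟨⟨d, hd⟩, ⟨g, hg⟩⟩
      refine ⟨(g, g - X ^ b * d), ⟨d, by simp⟩, Prod.ext hg.symm ?_⟩
      change X ^ i * (g - X ^ b * d) = f.2
      linear_combination hd - hg + d * pow_add (X : PowerSeries k) b i
  have hinj : ∀ x : (PowerSeries k × PowerSeries k), e • x = 0 → x = 0 := fun x hx => by
    obtain ⟨h1, h2⟩ := Prod.ext_iff.1 hx
    exact Prod.ext ((mul_eq_zero.1 h1).resolve_left (pow_ne_zero _ X_ne_zero))
      ((mul_eq_zero.1 h2).resolve_left (pow_ne_zero _ X_ne_zero))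
  have key := length_ext_one_add (A := O) (S := (PowerSeries k × PowerSeries k)) (M := Submodule.span O ({1, (X ^ a, 0)} : Set (PowerSeries k × PowerSeries k)))
    (N := B O hO b (by omega)) (T := {1, (X ^ a, 0)}) rfl (fun _ : Fin 1 => ((X ^ a, 0) : (PowerSeries k × PowerSeries k)))
    (by rw [Set.range_const]) e hinj Subtype.val_injective (fun _ => c)
    (fun _ => by
      change ((X ^ δ, 0) : (PowerSeries k × PowerSeries k)) = (X ^ i * X ^ a, X ^ i * 0)
      rw [← pow_add, show i + a = δ by omega, mul_zero])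
    (C.comap (LinearMap.proj 0)) (E₀.comap (LinearMap.proj 0)) C ?_ ?_ ?_
  · rw [length_Y_quotient ε hε (b := b) (c := b - a) (i := i) (by omega) _ _ (fun y => Iff.rfl)
        (fun y => hE₀ (y 0)),
      length_C_quotient ε hε (b := b) (c := b - a) _ C (fun y => Iff.rfl) (fun y => Iff.rfl)] at key
    have cancel : ∀ x : ℕ∞, x + ((b - a : ℕ) : ℕ∞) = ((i - (b - a) + i : ℕ) : ℕ∞) →
        x = ((2 * min i j : ℕ) : ℕ∞) := by
      intro x h
      induction x using ENat.recTopCoe with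
      | top => rw [top_add] at h; exact absurd h.symm (ENat.coe_ne_top _)
      | coe x =>
        rw [← Nat.cast_add, Nat.cast_inj] at h
        rw [Nat.cast_inj]
        omega
    exact cancel _ key
  · intro y
    simp only [Fin.forall_fin_one, Fin.sum_univ_one]
    constructor
    · intro hy
      refine ⟨hy.1, fun z hz => ?_⟩
      obtain ⟨z0, hz0⟩ := Submodule.mem_one.1 hz
      have hzu : X ^ δ ∣ X ^ a * (z 0 : (PowerSeries k × PowerSeries k)).1 := by
        have := (hO _).1 z0.2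
        change (z0 : (PowerSeries k × PowerSeries k)) = _ at hz0
        rw [hz0] at this
        change X ^ δ ∣ (z 0 : (PowerSeries k × PowerSeries k)).1 * X ^ a - (z 0 : (PowerSeries k × PowerSeries k)).2 * 0 at this
        rwa [mul_zero, sub_zero, mul_comm] at this
      rw [X_pow_dvd_mul_iff, show δ - a = i by omega] at hzu
      obtain ⟨w₁, hw₁⟩ := hzu
      obtain ⟨d, hd⟩ := (hO (z 0)).1 (z 0).2
      have hw₂ : (z 0 : (PowerSeries k × PowerSeries k)).2 = X ^ i * (w₁ - X ^ a * d) := by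
        have h3 : (X : PowerSeries k) ^ δ = X ^ i * X ^ a := by rw [← pow_add]; congr 1; omega
        linear_combination hw₁ - hd - d * h3
      refine ⟨(w₁, w₁ - X ^ a * d) * y 0, ?_, Prod.ext ?_ ?_⟩
      · change X ^ b ∣ w₁ * (y 0).1 - (w₁ - X ^ a * d) * (y 0).2
        rw [show w₁ * (y 0).1 - (w₁ - X ^ a * d) * (y 0).2 =
          d * (X ^ a * (y 0).1) + (w₁ - X ^ a * d) * ((y 0).1 - (y 0).2) by ring]
        exact dvd_add (Dvd.dvd.mul_left (X_pow_dvd_mul_iff.2 hy.2) _) (Dvd.dvd.mul_left hy.1 _)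
      · change (z 0 : (PowerSeries k × PowerSeries k)).1 * (y 0).1 = X ^ i * (w₁ * (y 0).1)
        rw [hw₁, mul_assoc]
      · change (z 0 : (PowerSeries k × PowerSeries k)).2 * (y 0).2 = X ^ i * ((w₁ - X ^ a * d) * (y 0).2)
        rw [hw₂, mul_assoc]
    · rintro ⟨hy, h⟩
      refine ⟨hy, ?_⟩
      obtain ⟨m, hm, hme⟩ := h (fun _ => c) (Submodule.mem_one.2
        ⟨⟨(X ^ δ * X ^ a, 0), (hO _).2 (by simp)⟩, Prod.ext rfl (mul_zero (0 : PowerSeries k)).symm⟩)
      obtain ⟨h1, h2⟩ := Prod.ext_iff.1 hme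
      change X ^ δ * (y 0).1 = X ^ i * m.1 at h1
      change (0 : PowerSeries k) * (y 0).2 = X ^ i * m.2 at h2
      rw [zero_mul] at h2
      have hm2 : m.2 = 0 := (mul_eq_zero.1 h2.symm).resolve_left (pow_ne_zero _ X_ne_zero)
      have hm1 : m.1 = X ^ a * (y 0).1 := by
        refine mul_left_cancel₀ (pow_ne_zero i X_ne_zero) ?_
        rw [← h1, ← mul_assoc, ← pow_add, show i + a = δ by omega]
      change X ^ b ∣ m.1 - m.2 at hm
      rw [hm2, sub_zero, hm1, X_pow_dvd_mul_iff] at hm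
      exact hm
  · intro y
    simp only [Fin.forall_fin_one]
    exact ⟨fun ⟨g, hg, h⟩ => ⟨g, hg, h.symm⟩, fun ⟨g, hg, h⟩ => ⟨g, hg, h.symm⟩⟩
  · intro x
    simp only [Fin.forall_fin_one]
    refine and_congr Iff.rfl ?_
    change _ ↔ X ^ b ∣ X ^ a * x.1 - 0 * x.2
    rw [zero_mul, sub_zero]
    exact X_pow_dvd_mul_iff.symm

end Groth.L21.ExtLattice.Pairs
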